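import Mathlib.LinearAlgebra.Pi
import Mathlib.RingTheory.Ideal.Operations
import Mathlib.Tactic.Abel

/-!
# Deforming a separable algebra structure along a square-zero ideal

An algebra structure on `Fin m → T` is a bilinear map `β`, together with the unit `e o` and a separability
element `∑ j, x j ⊗ e j`.
-/

set_option autoImplicit false

universe u

namespace AzHensLib

variable {T : Type u} [CommRing T] {m : ℕ}

/-- Basis vector. -/
def ee (T : Type u) [CommRing T] {m : ℕ} (j : Fin m) : Fin m → T := Pi.single j 1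

lemma eq_sum_ee (v : Fin m → T) : v = ∑ j, v j • ee T j := pi_eq_sum_univ' v

/-- An algebra structure with a separability element. -/
structure IsSep (β : (Fin m → T) →ₗ[T] (Fin m → T) →ₗ[T] (Fin m → T)) (o : Fin m)
    (x : Fin m → Fin m → T) : Prop where
  one_mul : ∀ v, β (ee T o) v = v
  mul_one : ∀ v, β v (ee T o) = v
  assoc : ∀ a b d, β (β a b) d = β a (β b d)
  norm : ∑ j, β (x j) (ee T j) = ee T o
  central : ∀ a l, β a (x l) = ∑ j, β (ee T j) a l • x j

section Deform

variable (N : Ideal T)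

/-- Vectors with entries in the ideal. -/
def InN (v : Fin m → T) : Prop := ∀ k, v k ∈ N

variable {N}

lemma InN.add {v w : Fin m → T} (hv : InN N v) (hw : InN N w) : InN N (v + w) := fun k => add_mem (hv k) (hw k)

lemma InN.neg {v : Fin m → T} (hv : InN N v) : InN N (-v) := fun k => neg_mem (hv k)

lemma InN.sub {v w : Fin m → T} (hv : InN N v) (hw : InN N w) : InN N (v - w) := fun k => sub_mem (hv k) (hw k)

lemma InN.zero : InN N (0 : Fin m → T) := fun _ => zero_mem N

lemma InN.sum {ι : Type*} [Fintype ι] {f : ι → Fin m → T} (h : ∀ i, InN N (f i)) : InN N (∑ i, f i) := fun k => by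
  rw [Finset.sum_apply]
  exact sum_mem fun i _ => h i k

lemma InN.smul {v : Fin m → T} (hv : InN N v) (c : T) : InN N (c • v) := fun k => N.mul_mem_left c (hv k)

lemma InN.map {v : Fin m → T} (hv : InN N v) (F : (Fin m → T) →ₗ[T] (Fin m → T)) : InN N (F v) := by
  rw [eq_sum_ee v, map_sum]
  exact InN.sum fun j k => by
    rw [map_smul]
    exact N.mul_mem_right _ (hv j)

/-- A linear map with values in `N` kills `N`. -/
lemma kill (hN : ∀ a ∈ N, ∀ b ∈ N, a * b = 0) (F : (Fin m → T) →ₗ[T] (Fin m → T)) (hF : ∀ v, InN N (F v))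
    {w : Fin m → T} (hw : InN N w) : F w = 0 := by
  rw [eq_sum_ee w, map_sum]
  refine Finset.sum_eq_zero fun j _ => funext fun k => ?_
  rw [map_smul]
  exact hN _ (hw j) _ (hF _ k)

lemma bil_kill (hN : ∀ a ∈ N, ∀ b ∈ N, a * b = 0) (β : (Fin m → T) →ₗ[T] (Fin m → T) →ₗ[T] (Fin m → T))
    {v w : Fin m → T} (hv : InN N v) (hw : InN N w) : β v w = 0 :=
  kill hN (β v) (fun z => by
    show InN N (β v z)
    exact hv.map (β.flip z)) hw

theorem exists_assoc (hN : ∀ a ∈ N, ∀ b ∈ N, a * b = 0)
    (β : (Fin m → T) →ₗ[T] (Fin m → T) →ₗ[T] (Fin m → T)) (o : Fin m) (x : Fin m → Fin m → T)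
    (h1 : ∀ v, β (ee T o) v = v) (h1' : ∀ v, β v (ee T o) = v)
    (hassoc : ∀ a b d, InN N (β (β a b) d - β a (β b d)))
    (hnorm : InN N (∑ j, β (x j) (ee T j) - ee T o))
    (hcent : ∀ a l, InN N (β a (x l) - ∑ j, β (ee T j) a l • x j)) :
    ∃ β' : (Fin m → T) →ₗ[T] (Fin m → T) →ₗ[T] (Fin m → T),
      (∀ v, β' (ee T o) v = v) ∧ (∀ v, β' v (ee T o) = v) ∧
      (∀ a b d, β' (β' a b) d = β' a (β' b d)) ∧ ∀ a b, InN N (β' a b - β a b) := by
  let c : (Fin m → T) → (Fin m → T) → (Fin m → T) → (Fin m → T) := fun a b d => β (β a b) d - β a (β b d)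
  let h : (Fin m → T) →ₗ[T] (Fin m → T) →ₗ[T] (Fin m → T) :=
    LinearMap.mk₂ T (fun a b => ∑ j, β (x j) (c (ee T j) a b))
      (fun a a' b => by simp [c, Finset.sum_add_distrib, add_sub_add_comm])
      (fun r a b => by simp [c, Finset.smul_sum, smul_sub])
      (fun a b b' => by simp [c, Finset.sum_add_distrib, add_sub_add_comm])
      (fun r a b => by simp [c, Finset.smul_sum, smul_sub])
  have hh : ∀ a b, h a b = ∑ j, β (x j) (c (ee T j) a b) := fun _ _ => rfl
  have hhN : ∀ a b, InN N (h a b) := fun a b => by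
    rw [hh]
    exact InN.sum fun j => (hassoc (ee T j) a b).map (β (x j))
  -- associators with an argument in `N` vanish
  have k3 : ∀ a b {w}, InN N w → c a b w = 0 := fun a b w hw => by
    have := kill hN (β (β a b) - (β a).comp (β b)) (fun v => hassoc a b v) hw
    exact this
  have k2 : ∀ a d {w}, InN N w → c a w d = 0 := fun a d w hw => by
    have := kill hN ((β.flip d).comp (β a) - (β a).comp (β.flip d)) (fun v => hassoc a v d) hw
    exact this
  have pent : ∀ e a b d, β e (c a b d) - c (β e a) b d + c e (β a b) d - c e a (β b d) + β (c e a b) d = 0 := by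
    intro e a b d
    simp only [c, map_sub, LinearMap.sub_apply]
    abel
  -- the contracting homotopy
  have e1 : ∀ a b d, ∑ j, β (x j) (β (ee T j) (c a b d)) = c a b d := by
    intro a b d
    have : ∀ j, β (x j) (β (ee T j) (c a b d)) = β (β (x j) (ee T j)) (c a b d) := fun j =>
      ((sub_eq_zero.1 (k3 (x j) (ee T j) (hassoc a b d)))).symm
    rw [Finset.sum_congr rfl fun j _ => this j, ← LinearMap.sum_apply, ← map_sum]
    conv_rhs => rw [← h1 (c a b d)]
    rw [← sub_eq_zero, ← LinearMap.sub_apply, ← map_sub]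
    exact bil_kill hN β hnorm (hassoc a b d)
  have e2 : ∀ a b d, ∑ j, β (x j) (c (β (ee T j) a) b d) = β a (h b d) := by
    intro a b d
    have hc : ∀ v, c v b d = ∑ l, v l • c (ee T l) b d := fun v => by
      conv_lhs => rw [eq_sum_ee v]
      simp [c, map_sum, LinearMap.sum_apply, Finset.sum_sub_distrib, smul_sub]
    have : ∀ j, β (x j) (c (β (ee T j) a) b d) = ∑ l, β (β (ee T j) a l • x j) (c (ee T l) b d) := fun j => by
      rw [hc, map_sum]
      exact Finset.sum_congr rfl fun l _ => by simp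
    rw [Finset.sum_congr rfl fun j _ => this j, Finset.sum_comm, hh, map_sum]
    refine Finset.sum_congr rfl fun l _ => ?_
    rw [← LinearMap.sum_apply, ← map_sum, ← sub_eq_zero.1 (k3 a (x l) (hassoc (ee T l) b d))]
    rw [← sub_eq_zero, ← LinearMap.sub_apply, ← map_sub]
    exact bil_kill hN β (by simpa using (hcent a l).neg) (hassoc _ _ _)
  have e3 : ∀ a b d, ∑ j, β (x j) (β (c (ee T j) a b) d) = β (h a b) d := by
    intro a b d
    rw [hh, map_sum, LinearMap.sum_apply]
    exact Finset.sum_congr rfl fun j _ => (sub_eq_zero.1 (k2 (x j) d (hassoc (ee T j) a b))).symm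
  have key : ∀ a b d, c a b d + (h (β a b) d + β (h a b) d - h a (β b d) - β a (h b d)) = 0 := by
    intro a b d
    have := Finset.sum_eq_zero (s := Finset.univ) (f := fun j => β (x j)
      (β (ee T j) (c a b d) - c (β (ee T j) a) b d + c (ee T j) (β a b) d - c (ee T j) a (β b d)
        + β (c (ee T j) a b) d)) fun j _ => by rw [pent, map_zero]
    simp only [map_add, map_sub, Finset.sum_add_distrib, Finset.sum_sub_distrib, e1, e2, e3] at this
    rw [← hh, ← hh] at this
    rw [← this]
    abel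
  refine ⟨β + h, fun v => ?_, fun v => ?_, fun a b d => ?_, fun a b => by simpa using hhN a b⟩
  · rw [LinearMap.add_apply, LinearMap.add_apply, h1, hh]
    simp [c, h1, h1']
  · rw [LinearMap.add_apply, LinearMap.add_apply, h1', hh]
    simp [c, h1, h1']
  · have z1 : h (h a b) d = 0 := kill hN (h.flip d) (fun v => hhN v d) (hhN a b)
    have z2 : h a (h b d) = 0 := kill hN (h a) (fun v => hhN a v) (hhN b d)
    simp only [LinearMap.add_apply, map_add, z1, z2, add_zero]
    rw [← sub_eq_zero, ← key a b d]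
    simp only [c]
    abel

theorem exists_sep (hN : ∀ a ∈ N, ∀ b ∈ N, a * b = 0)
    (β : (Fin m → T) →ₗ[T] (Fin m → T) →ₗ[T] (Fin m → T)) (o : Fin m) (x : Fin m → Fin m → T)
    (h1 : ∀ v, β (ee T o) v = v) (h1' : ∀ v, β v (ee T o) = v)
    (hassoc : ∀ a b d, β (β a b) d = β a (β b d))
    (hnorm : InN N (∑ j, β (x j) (ee T j) - ee T o))
    (hcent : ∀ a l, InN N (β a (x l) - ∑ j, β (ee T j) a l • x j)) :
    ∃ x' : Fin m → Fin m → T, IsSep β o x' ∧ ∀ l, InN N (x' l - x l) := by
  classical
  set n := ∑ j, β (x j) (ee T j) - ee T o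
  let x₀ : Fin m → Fin m → T := x - (Pi.single o n : Fin m → Fin m → T)
  have hx₀ : ∀ l, InN N (x₀ l - x l) := fun l => by
    rcases eq_or_ne l o with rfl | hl
    · simpa [x₀] using hnorm.neg
    · simpa [x₀, hl] using InN.zero (N := N)
  have hnorm₀ : ∑ j, β (x₀ j) (ee T j) = ee T o := by
    have : ∑ j, β ((Pi.single o n : Fin m → Fin m → T) j) (ee T j) = n := by
      rw [Finset.sum_eq_single o]
      · rw [Pi.single_eq_same, h1']
      · intro j _ hj; simp [hj]
      · simp
    simp only [x₀, Pi.sub_apply, map_sub, LinearMap.sub_apply, Finset.sum_sub_distrib, this]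
    simp [n]
  let δ : (Fin m → T) → Fin m → Fin m → T := fun a l => β a (x₀ l) - ∑ j, β (ee T j) a l • x₀ j
  have hδN : ∀ a l, InN N (δ a l) := fun a l => by
    have h2 : δ a l = (β a (x l) - ∑ j, β (ee T j) a l • x j) +
        (β a (x₀ l - x l) - ∑ j, β (ee T j) a l • (x₀ j - x j)) := by
      simp only [δ, map_sub, smul_sub, Finset.sum_sub_distrib]
      abel
    rw [h2]
    exact (hcent a l).add (((hx₀ l).map _).sub (InN.sum fun j => (hx₀ j).smul _))
  have hδlin : ∀ v l, δ v l = ∑ i, v i • δ (ee T i) l := fun v l => by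
    conv_lhs => rw [eq_sum_ee v]
    simp only [δ, map_sum, map_smul, LinearMap.sum_apply, LinearMap.smul_apply, Finset.sum_apply, Pi.smul_apply,
      smul_eq_mul, Finset.sum_smul, smul_sub, Finset.sum_sub_distrib, Finset.smul_sum, mul_smul]
    rw [Finset.sum_comm]
  -- right multiplication commutes with the left one and is anti-multiplicative
  have hRR : ∀ (a b : Fin m → T) (w : Fin m → Fin m → T) l,
      ∑ i, β (ee T i) b l • ∑ j, β (ee T j) a i • w j = ∑ j, β (ee T j) (β a b) l • w j := by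
    intro a b w l
    simp only [Finset.smul_sum, smul_smul]
    rw [Finset.sum_comm]
    refine Finset.sum_congr rfl fun j _ => ?_
    rw [← Finset.sum_smul]
    congr 1
    rw [← hassoc]
    conv_rhs => rw [eq_sum_ee (β (ee T j) a)]
    simp [map_sum, LinearMap.sum_apply, Finset.sum_apply, mul_comm]
  have hder : ∀ a b l, δ (β a b) l = β a (δ b l) + ∑ j, β (ee T j) b l • δ a j := by
    intro a b l
    simp only [δ, map_sub, map_sum, map_smul, smul_sub, Finset.sum_sub_distrib, hassoc, hRR]
    abel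
  let u : Fin m → Fin m → T := fun l => ∑ j, β (x₀ j) (δ (ee T j) l)
  have hu : ∀ a l, β a (u l) = δ a l + ∑ j, β (ee T j) a l • u j := by
    intro a l
    have h2 : β a (u l) = ∑ j, β (∑ i, β (ee T i) a j • x₀ i) (δ (ee T j) l) := by
      show β a (∑ j, β (x₀ j) (δ (ee T j) l)) = _
      rw [map_sum]
      refine Finset.sum_congr rfl fun j _ => ?_
      rw [← hassoc, ← sub_eq_zero, ← LinearMap.sub_apply, ← map_sub]
      exact bil_kill hN β (hδN a j) (hδN _ _)
    have h3 : ∀ i, ∑ j, β (β (ee T i) a j • x₀ i) (δ (ee T j) l) =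
        β (x₀ i) (δ (β (ee T i) a) l) := fun i => by
      rw [hδlin (β (ee T i) a) l, map_sum]
      exact Finset.sum_congr rfl fun j _ => by simp
    rw [h2]
    simp only [map_sum, LinearMap.sum_apply]
    rw [Finset.sum_comm, Finset.sum_congr rfl fun i _ => h3 i]
    simp only [hder, map_add, map_sum, map_smul, Finset.sum_add_distrib]
    congr 1
    · simp_rw [← hassoc]
      rw [← LinearMap.sum_apply, ← map_sum, hnorm₀, h1]
    · show _ = ∑ j, β (ee T j) a l • ∑ i, β (x₀ i) (δ (ee T i) j)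
      simp only [Finset.smul_sum]
      rw [Finset.sum_comm]
  have hμδ : ∀ a, ∑ l, β (δ a l) (ee T l) = 0 := by
    intro a
    simp only [δ, map_sub, LinearMap.sub_apply, Finset.sum_sub_distrib, map_sum, map_smul, LinearMap.sum_apply,
      LinearMap.smul_apply]
    rw [sub_eq_zero]
    have e1 : ∑ l, β (β a (x₀ l)) (ee T l) = a := by
      simp_rw [hassoc]
      rw [← map_sum, hnorm₀, h1']
    have e2 : ∑ l, ∑ j, β (ee T j) a l • β (x₀ j) (ee T l) = a := by
      rw [Finset.sum_comm]
      have : ∀ j, ∑ l, β (ee T j) a l • β (x₀ j) (ee T l) = β (β (x₀ j) (ee T j)) a := fun j => by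
        rw [hassoc]
        conv_rhs => rw [eq_sum_ee (β (ee T j) a)]
        simp [map_sum]
      rw [Finset.sum_congr rfl fun j _ => this j, ← LinearMap.sum_apply, ← map_sum, hnorm₀, h1]
    rw [e1, e2]
  refine ⟨x₀ - u, ⟨h1, h1', hassoc, ?_, fun a l => ?_⟩, fun l => ?_⟩
  · simp only [Pi.sub_apply, map_sub, LinearMap.sub_apply, Finset.sum_sub_distrib, hnorm₀]
    rw [sub_eq_self]
    simp only [u, map_sum, LinearMap.sum_apply]
    rw [Finset.sum_comm]
    refine Finset.sum_eq_zero fun j _ => ?_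
    simp_rw [hassoc]
    rw [← map_sum, hμδ, map_zero]
  · simp only [Pi.sub_apply, map_sub, smul_sub, Finset.sum_sub_distrib, hu a l]
    simp only [δ]
    abel
  · rw [Pi.sub_apply, sub_right_comm]
    exact (hx₀ l).sub (InN.sum fun j => (hδN _ _).map _)

theorem exists_deform (hN : ∀ a ∈ N, ∀ b ∈ N, a * b = 0)
    (β : (Fin m → T) →ₗ[T] (Fin m → T) →ₗ[T] (Fin m → T)) (o : Fin m) (x : Fin m → Fin m → T)
    (h1 : ∀ v, β (ee T o) v = v) (h1' : ∀ v, β v (ee T o) = v)
    (hassoc : ∀ a b d, InN N (β (β a b) d - β a (β b d)))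
    (hnorm : InN N (∑ j, β (x j) (ee T j) - ee T o))
    (hcent : ∀ a l, InN N (β a (x l) - ∑ j, β (ee T j) a l • x j)) :
    ∃ β' x', IsSep β' o x' ∧ (∀ a b, InN N (β' a b - β a b)) ∧ ∀ l, InN N (x' l - x l) := by
  obtain ⟨β', g1, g1', gassoc, gN⟩ := exists_assoc hN β o x h1 h1' hassoc hnorm hcent
  obtain ⟨x', hx', hxN⟩ := exists_sep hN β' o x g1 g1' gassoc
    (by
      have : ∑ j, β' (x j) (ee T j) - ee T o =
          (∑ j, (β' (x j) (ee T j) - β (x j) (ee T j))) + (∑ j, β (x j) (ee T j) - ee T o) := by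
        rw [Finset.sum_sub_distrib]; abel
      rw [this]
      exact (InN.sum fun j => gN _ _).add hnorm)
    (fun a l => by
      have : β' a (x l) - ∑ j, β' (ee T j) a l • x j = (β' a (x l) - β a (x l)) -
          (∑ j, (β' (ee T j) a - β (ee T j) a) l • x j) + (β a (x l) - ∑ j, β (ee T j) a l • x j) := by
        simp only [Pi.sub_apply, sub_smul, Finset.sum_sub_distrib]; abel
      rw [this]
      refine ((gN _ _).sub (InN.sum fun j k => ?_)).add (hcent a l)
      exact N.mul_mem_right _ (gN _ _ l))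
  exact ⟨β', x', hx', gN, hxN⟩

end Deform

end AzHensLib
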