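import Groth.Agent.AzHensLib.Moduli
import Groth.Agent.AzumayaLib.Fibres
import Mathlib.LinearAlgebra.Dimension.StrongRankCondition

/-!
# Central simple algebras over the residue field lift to Azumaya algebras
-/

set_option autoImplicit false

universe u

open scoped TensorProduct
open IsLocalRing MulOpposite

namespace AzHensLib

/-- A central simple algebra has a separability element with respect to any basis through `1`. -/
theorem exists_sep_field {k : Type u} [Field k] {A : Type u} [Ring A] [Algebra k A] [IsAzumaya k A]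
    {m : ℕ} (b : Module.Basis (Fin m) k A) (o : Fin m) (ho : b o = 1) :
    ∃ x : Fin m → A, ∑ j, x j * b j = 1 ∧ ∀ a l, a * x l = ∑ j, b.repr (b j * a) l • x j := by
  classical
  let l : A →ₗ[k] k := b.coord o
  have hl : l 1 = 1 := by rw [← ho]; simp [l]
  let μ := LinearEquiv.ofBijective (AlgHom.mulLeftRight k A).toLinearMap IsAzumaya.bij
  let t : A ⊗[k] Aᵐᵒᵖ := μ.symm (l.smulRight (1 : A))
  let bop : Module.Basis (Fin m) k Aᵐᵒᵖ := b.map (opLinearEquiv k)
  let x : Fin m → A := TensorProduct.finsuppScalarRight k k A (Fin m) (LinearMap.lTensor A bop.repr.toLinearMap t)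
  have ht : t = ∑ j, x j ⊗ₜ[k] op (b j) := by
    apply (TensorProduct.congr (LinearEquiv.refl k A) bop.repr ≪≫ₗ TensorProduct.finsuppScalarRight k k A (Fin m)).injective
    rw [map_sum]
    refine Finsupp.ext fun i => ?_
    rw [Finsupp.finsetSum_apply]
    rw [Finset.sum_eq_single i]
    · show _ = TensorProduct.finsuppScalarRight k k A (Fin m) (x i ⊗ₜ[k] bop.repr (op (b i))) i
      rw [show op (b i) = bop i from rfl, Module.Basis.repr_self, TensorProduct.finsuppScalarRight_apply_tmul_apply,
        Finsupp.single_eq_same, one_smul]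
      rfl
    · intro j _ hj
      show TensorProduct.finsuppScalarRight k k A (Fin m) (x j ⊗ₜ[k] bop.repr (op (b j))) i = 0
      rw [show op (b j) = bop j from rfl, Module.Basis.repr_self, TensorProduct.finsuppScalarRight_apply_tmul_apply,
        Finsupp.single_eq_of_ne (Ne.symm hj), zero_smul]
    · simp
  have hμt : ∀ z, ∑ j, x j * z * b j = l z • (1 : A) := fun z => by
    have h := LinearMap.congr_fun (μ.apply_symm_apply (l.smulRight (1 : A))) z
    change AlgHom.mulLeftRight k A t z = _ at h
    rw [ht, map_sum, LinearMap.sum_apply] at h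
    simpa using h
  refine ⟨x, by simpa [hl] using hμt 1, fun a i => ?_⟩
  -- compare both sides in `A ⊗ Aᵐᵒᵖ`
  let e := TensorProduct.congr (LinearEquiv.refl k A) bop.repr ≪≫ₗ TensorProduct.finsuppScalarRight k k A (Fin m)
  have hinj : ∑ j, (a * x j) ⊗ₜ[k] op (b j) = ∑ j, x j ⊗ₜ[k] op (b j * a) := by
    refine μ.injective (LinearMap.ext fun z => ?_)
    show AlgHom.mulLeftRight k A _ z = AlgHom.mulLeftRight k A _ z
    simp only [map_sum, LinearMap.sum_apply, AlgHom.mulLeftRight_apply, unop_op]
    have e1 : ∑ j, a * x j * z * b j = a * ∑ j, x j * z * b j := by simp [Finset.mul_sum, mul_assoc]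
    have e2 : ∑ j, x j * z * (b j * a) = (∑ j, x j * z * b j) * a := by simp [Finset.sum_mul, mul_assoc]
    rw [e1, e2, hμt, mul_smul_comm, smul_mul_assoc, mul_one, one_mul]
  have h := congrArg (fun z => e z i) hinj
  simp only [map_sum, Finsupp.finsetSum_apply] at h
  have hval : ∀ (u v : A), e (u ⊗ₜ[k] op v) i = b.repr v i • u := fun u v => by
    show TensorProduct.finsuppScalarRight k k A (Fin m) (u ⊗ₜ[k] bop.repr (op v)) i = _
    rw [TensorProduct.finsuppScalarRight_apply_tmul_apply]
    rfl
  simp only [hval] at h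
  rw [Finset.sum_eq_single i] at h
  · rw [Module.Basis.repr_self, Finsupp.single_eq_same, one_smul] at h
    exact h
  · intro j _ hj; rw [Module.Basis.repr_self, Finsupp.single_eq_of_ne (Ne.symm hj), zero_smul]
  · simp

/-- A basis whose `o`-th vector is `1`. -/
theorem exists_basis_one (k : Type u) [Field k] (A : Type u) [Ring A] [Algebra k A] [FiniteDimensional k A]
    [Nontrivial A] : ∃ (m : ℕ) (o : Fin m) (b : Module.Basis (Fin m) k A), b o = 1 := by
  classical
  have hli : LinearIndepOn k id ({(1 : A)} : Set A) := LinearIndepOn.singleton one_ne_zero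
  let b₀ := Module.Basis.extend hli
  haveI : Fintype ↥(hli.extend (Set.subset_univ _)) := FiniteDimensional.fintypeBasisIndex b₀
  let i₀ : ↥(hli.extend (Set.subset_univ _)) := ⟨1, Module.Basis.subset_extend hli rfl⟩
  refine ⟨_, Fintype.equivFin _ i₀, b₀.reindex (Fintype.equivFin _), ?_⟩
  rw [Module.Basis.reindex_apply, Equiv.symm_apply_apply, Module.Basis.extend_apply_self]

variable (R : Type u) [CommRing R] [HenselianLocalRing R]

/-- The carrier of the lifted algebra. -/
@[nolint unusedArguments]
def Alg {m : ℕ} (_β : (Fin m → R) →ₗ[R] (Fin m → R) →ₗ[R] (Fin m → R)) (_o : Fin m)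
    (_h1 : ∀ v, _β (ee R _o) v = v) (_h2 : ∀ v, _β v (ee R _o) = v)
    (_h3 : ∀ a b d, _β (_β a b) d = _β a (_β b d)) : Type u := Fin m → R

namespace Alg

variable {R} {m : ℕ} {β : (Fin m → R) →ₗ[R] (Fin m → R) →ₗ[R] (Fin m → R)} {o : Fin m}
  {h1 : ∀ v, β (ee R o) v = v} {h2 : ∀ v, β v (ee R o) = v} {h3 : ∀ a b d, β (β a b) d = β a (β b d)}

instance : AddCommGroup (Alg R β o h1 h2 h3) := inferInstanceAs (AddCommGroup (Fin m → R))

instance : Module R (Alg R β o h1 h2 h3) := inferInstanceAs (Module R (Fin m → R))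

noncomputable instance : Ring (Alg R β o h1 h2 h3) :=
  { (inferInstance : AddCommGroup (Alg R β o h1 h2 h3)) with
    one := ee R o
    mul := fun a b => β a b
    left_distrib := fun a b c => map_add (β a) b c
    right_distrib := fun a b c => LinearMap.map_add₂ β a b c
    zero_mul := fun a => LinearMap.map_zero₂ β a
    mul_zero := fun a => map_zero (β a)
    mul_assoc := h3
    one_mul := h1
    mul_one := h2 }

noncomputable instance : Algebra R (Alg R β o h1 h2 h3) :=
  Algebra.ofModule (fun r a b => LinearMap.map_smul₂ β r a b) fun r a b => map_smul (β a) r b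

instance : Module.Finite R (Alg R β o h1 h2 h3) := inferInstanceAs (Module.Finite R (Fin m → R))

instance : Module.Free R (Alg R β o h1 h2 h3) := inferInstanceAs (Module.Free R (Fin m → R))

end Alg

theorem exists_azumaya (A₀ : Type u) [Ring A₀] [Algebra (ResidueField R) A₀] [Algebra.IsCentral (ResidueField R) A₀]
    [IsSimpleRing A₀] [FiniteDimensional (ResidueField R) A₀] :
    ∃ (A : Type u) (_ : Ring A) (_ : Algebra R A), IsAzumaya R A ∧
      Nonempty ((ResidueField R ⊗[R] A) ≃ₐ[ResidueField R] A₀) := by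
  classical
  haveI : IsAzumaya (ResidueField R) A₀ := AzumayaLib.isAzumaya_of_csa (ResidueField R) A₀
  obtain ⟨m, o, b, hbo⟩ := exists_basis_one (ResidueField R) A₀
  obtain ⟨x₀, hx1, hx2⟩ := exists_sep_field b o hbo
  let β₀ : (Fin m → ResidueField R) →ₗ[ResidueField R] (Fin m → ResidueField R) →ₗ[ResidueField R] (Fin m → ResidueField R) :=
    ((LinearMap.mul (ResidueField R) A₀).compl₁₂ b.equivFun.symm.toLinearMap b.equivFun.symm.toLinearMap).compr₂
      b.equivFun.toLinearMap
  have hβ₀ : ∀ u v, β₀ u v = b.equivFun (b.equivFun.symm u * b.equivFun.symm v) := fun _ _ => rfl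
  have hee : ∀ j, b.equivFun.symm (ee (ResidueField R) j) = b j := fun j => by
    rw [Module.Basis.equivFun_symm_apply]; simp [ee, Pi.single_apply]
  have hone : b.equivFun (1 : A₀) = ee (ResidueField R) o := by
    rw [← hbo, ← hee, LinearEquiv.apply_symm_apply]
  have hsep : IsSep β₀ o (fun j => b.equivFun (x₀ j)) :=
    { one_mul := fun v => by rw [hβ₀, hee, hbo, one_mul, LinearEquiv.apply_symm_apply]
      mul_one := fun v => by rw [hβ₀, hee, hbo, mul_one, LinearEquiv.apply_symm_apply]
      assoc := fun a b' d => by simp only [hβ₀, LinearEquiv.symm_apply_apply, mul_assoc]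
      norm := by
        simp only [hβ₀, hee, LinearEquiv.symm_apply_apply]
        rw [← map_sum, hx1, hone]
      central := fun a l => by
        simp only [hβ₀, hee, LinearEquiv.symm_apply_apply]
        rw [hx2, map_sum]
        exact Finset.sum_congr rfl fun j _ => by rw [map_smul]; rfl }
  let σ : Mod R o →ₐ[R] R ⧸ maximalIdeal R := point R o (S := ResidueField R) _ _ (eqs_of_isSep o hsep)
  haveI : HenselianRing R (maximalIdeal R) := inferInstance
  obtain ⟨τ, hτ⟩ := HenselLib.exists_point_lift (Mod R o) σ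
  let c : Fin m → Fin m → Fin m → R := fun i j k => τ (Ideal.Quotient.mk _ (MvPolynomial.X (Sum.inl (i, j, k))))
  have hres : ∀ i j k, residue R (c i j k) = β₀ (ee _ i) (ee _ j) k := fun i j k => by
    refine (AlgHom.congr_fun hτ (Ideal.Quotient.mk _ (MvPolynomial.X (Sum.inl (i, j, k))))).trans ?_
    exact point_mk (S := ResidueField R) R o _ _ _ _
  obtain ⟨hA, hM, hC⟩ := inN_of_eqs o (N := (⊥ : Ideal R)) (c := c)
    (x := fun j k => τ (Ideal.Quotient.mk _ (MvPolynomial.X (Sum.inr (j, k))))) fun q => (Submodule.mem_bot R).2 (eqs_point R o τ q)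
  have hA' : ∀ a b' d, bil c (bil c a b') d = bil c a (bil c b' d) := fun a b' d =>
    funext fun k => sub_eq_zero.1 ((Submodule.mem_bot R).1 (hA a b' d k))
  have h1 : ∀ v, bil c (ee R o) v = v := fun v => by
    ext k
    rw [bil_apply, Finset.sum_eq_single o]
    · have hc : ∀ j, c o j k = if j = k then 1 else 0 := fun j => by
        have h0 := eqs_point R o τ (Sum.inl (Sum.inr (j, k)))
        simpa [eqs, sub_eq_zero] using h0
      simp [ee, hc]
    · intro e _ he; simp [ee, he]
    · simp
  have h1' : ∀ v, bil c v (ee R o) = v := fun v => by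
    ext k
    rw [bil_apply]
    have : ∀ i, ∑ j, v i * ee R o j * c i j k = if i = k then v i else 0 := fun i => by
      rw [Finset.sum_eq_single o]
      · have hc : c i o k = if i = k then 1 else 0 := by
          have h0 := eqs_point R o τ (Sum.inr (Sum.inl (i, k)))
          simpa [eqs, sub_eq_zero] using h0
        simp [ee, hc]
      · intro e _ he; simp [ee, he]
      · simp
    simp [this]
  let A := Alg R (bil c) o h1 h1' hA'
  letI : Algebra R A₀ := ((algebraMap (ResidueField R) A₀).comp (residue R)).toAlgebra' fun r a => Algebra.commutes _ a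
  haveI : IsScalarTower R (ResidueField R) A₀ := IsScalarTower.of_algebraMap_eq fun r => rfl
  let fl : (Fin m → R) →ₗ[R] A₀ := Fintype.linearCombination R (b : Fin m → A₀)
  have hfl : ∀ j, fl (ee R j) = b j := fun j => by simp [fl, ee, Fintype.linearCombination_apply_single]
  have hmul : ∀ u v, fl (bil c u v) = fl u * fl v := by
    intro u v
    have : (bil c).compr₂ fl = (LinearMap.mul R A₀).compl₁₂ fl fl := by
      refine LinearMap.pi_ext' fun i => LinearMap.ext_ring (LinearMap.pi_ext' fun j => LinearMap.ext_ring ?_)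
      show fl (bil c (ee R i) (ee R j)) = fl (ee R i) * fl (ee R j)
      rw [bil_ee, hfl, hfl]
      calc fl (c i j) = ∑ k, c i j k • b k := Fintype.linearCombination_apply R _ _
        _ = ∑ k, β₀ (ee _ i) (ee _ j) k • b k := Finset.sum_congr rfl fun k _ => by
            rw [← hres, ← algebraMap_smul (ResidueField R) (c i j k)]; rfl
        _ = b i * b j := by rw [← Module.Basis.equivFun_symm_apply, hβ₀, LinearEquiv.symm_apply_apply, hee, hee]
    exact LinearMap.congr_fun (LinearMap.congr_fun this u) v
  let f : A →ₐ[R] A₀ := AlgHom.ofLinearMap fl (show fl (ee R o) = 1 by rw [hfl, hbo]) hmul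
  let F : (ResidueField R ⊗[R] A) →ₐ[ResidueField R] A₀ :=
    Algebra.TensorProduct.lift (Algebra.ofId _ _) f fun r a => Algebra.commutes r _
  let bA : Module.Basis (Fin m) (ResidueField R) (ResidueField R ⊗[R] A) :=
    Algebra.TensorProduct.basis (ResidueField R) (Pi.basisFun R (Fin m) : Module.Basis (Fin m) R A)
  have hF : F.toLinearMap = (bA.equiv b (Equiv.refl _)).toLinearMap := bA.ext fun j => by
    show F (bA j) = bA.equiv b (Equiv.refl _) (bA j)
    rw [Module.Basis.equiv_apply]
    show F (Algebra.TensorProduct.basis (ResidueField R) (Pi.basisFun R (Fin m) : Module.Basis (Fin m) R A) j) = _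
    rw [Algebra.TensorProduct.basis_apply]
    show (Algebra.ofId (ResidueField R) A₀) 1 * fl ((Pi.basisFun R (Fin m)) j) = b j
    rw [map_one, one_mul, Pi.basisFun_apply]
    exact hfl j
  have hFbij : Function.Bijective F.toLinearMap := by rw [hF]; exact (bA.equiv b (Equiv.refl _)).bijective
  let Fe : (ResidueField R ⊗[R] A) ≃ₐ[ResidueField R] A₀ := AlgEquiv.ofBijective F hFbij
  haveI := IsAzumaya.of_AlgEquiv (ResidueField R) _ _ Fe.symm
  refine ⟨A, inferInstance, inferInstance, ?_, ⟨Fe⟩⟩
  exact AzumayaLib.isAzumaya_iff_closed_fibre.2 ⟨AzumayaLib.isCentral (R := ResidueField R), AzumayaLib.isSimpleRing_of_field (ResidueField R) _⟩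

end AzHensLib
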