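import Groth.Agent.AzumayaLib.Fibres
import Groth.Agent.HenselLib.Criteria
import Mathlib.RingTheory.SimpleModule.WedderburnArtin
import Mathlib.LinearAlgebra.TensorProduct.Quotient

/-!
# Isomorphisms of Azumaya algebras over henselian local rings lift from the residue field
-/

set_option autoImplicit false

universe u

open scoped TensorProduct
open IsLocalRing MulOpposite

namespace AzHensLib

variable {R : Type u} [CommRing R] [HenselianLocalRing R]

lemma tmul_one_eq_zero_iff {M : Type u} [AddCommGroup M] [Module R M] (x : M) :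
    (1 : ResidueField R) ⊗ₜ[R] x = 0 ↔ x ∈ maximalIdeal R • (⊤ : Submodule R M) := by
  rw [← Submodule.Quotient.mk_eq_zero (maximalIdeal R • (⊤ : Submodule R M))]
  refine ((TensorProduct.quotTensorEquivQuotSMul M (maximalIdeal R)).map_eq_zero_iff (x := (1 : ResidueField R) ⊗ₜ[R] x)).symm.trans ?_
  refine Eq.congr_left ?_
  show TensorProduct.quotTensorEquivQuotSMul M (maximalIdeal R) ((Ideal.Quotient.mk _ (1 : R)) ⊗ₜ[R] x) = _
  rw [TensorProduct.quotTensorEquivQuotSMul_mk_tmul, one_smul]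

theorem exists_idem_lift {C : Type u} [Ring C] [Algebra R C] [Module.Finite R C] (b : C)
    (hb : b * b - b ∈ maximalIdeal R • (⊤ : Submodule R C)) :
    ∃ e : C, IsIdempotentElem e ∧ e - b ∈ maximalIdeal R • (⊤ : Submodule R C) := by
  haveI : HenselianRing R (maximalIdeal R) := inferInstance
  have hrange : LinearMap.range (LinearMap.mulLeft R (b * b - b)) ≤ maximalIdeal R • (⊤ : Submodule R C) := by
    rintro _ ⟨x, rfl⟩
    show (b * b - b) * x ∈ _
    refine Submodule.smul_induction_on (p := fun z => z * x ∈ maximalIdeal R • (⊤ : Submodule R C)) hb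
      (fun a ha z _ => ?_) (fun y z hy hz => by rw [add_mul]; exact add_mem hy hz)
    rw [smul_mul_assoc]
    exact Submodule.smul_mem_smul ha trivial
  obtain ⟨P, hP, -, hPc, hP0⟩ :=
    LinearMap.exists_monic_and_natDegree_eq_and_coeff_mem_pow_and_aeval_eq_zero R _ _ hrange
  have h0 : Polynomial.aeval (b * b - b) P = 0 := by
    rw [show LinearMap.mulLeft R (b * b - b) = Algebra.lmul R C (b * b - b) from rfl,
      Polynomial.aeval_algHom_apply] at hP0
    simpa using LinearMap.congr_fun hP0 1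
  obtain ⟨E, hE, hq⟩ := HenselLib.exists_idem_polynomial.{u, u, u} (I := maximalIdeal R) b P hP
    (fun i hi => Ideal.pow_le_self (by omega) (hPc i)) h0
  refine ⟨Polynomial.aeval b E, hE, ?_⟩
  rw [← tmul_one_eq_zero_iff, TensorProduct.tmul_sub, sub_eq_zero]
  refine hq (Algebra.TensorProduct.includeRight : C →ₐ[R] ResidueField R ⊗[R] C) (fun a ha => ?_) ?_
  · rw [Algebra.TensorProduct.algebraMap_apply, IsLocalRing.ResidueField.algebraMap_eq,
      (IsLocalRing.residue_eq_zero_iff a).2 ha, TensorProduct.zero_tmul]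
  · show ((1 : ResidueField R) ⊗ₜ[R] b) * ((1 : ResidueField R) ⊗ₜ[R] b) = _
    rw [Algebra.TensorProduct.tmul_mul_tmul, one_mul]
    have := (tmul_one_eq_zero_iff _).2 hb
    rwa [TensorProduct.tmul_sub, sub_eq_zero] at this

theorem bijective_of_residue {A P : Type u} [AddCommGroup A] [Module R A] [Module.Finite R A]
    [AddCommGroup P] [Module R P] [Module.Finite R P] [Module.Projective R P] (φ : A →ₗ[R] P)
    (hs : ∀ p, ∃ a, φ a - p ∈ maximalIdeal R • (⊤ : Submodule R P))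
    (hi : ∀ a, φ a ∈ maximalIdeal R • (⊤ : Submodule R P) → a ∈ maximalIdeal R • (⊤ : Submodule R A)) :
    Function.Bijective φ := by
  have hsurj : LinearMap.range φ = ⊤ := by
    refine top_le_iff.1 (Submodule.le_of_le_smul_of_le_jacobson_bot Module.Finite.fg_top
      (maximalIdeal_le_jacobson ⊥) fun p _ => ?_)
    obtain ⟨a, ha⟩ := hs p
    rw [Submodule.mem_sup]
    exact ⟨φ a, ⟨a, rfl⟩, p - φ a, by rw [← neg_sub]; exact neg_mem ha, add_sub_cancel _ _⟩
  obtain ⟨σ, hσ⟩ := Module.projective_lifting_property φ LinearMap.id (LinearMap.range_eq_top.1 hsurj)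
  refine ⟨LinearMap.ker_eq_bot.1 ?_, LinearMap.range_eq_top.1 hsurj⟩
  let pr : A →ₗ[R] A := LinearMap.id - σ ∘ₗ φ
  have hker : LinearMap.ker φ = Submodule.map pr ⊤ := by
    ext a
    simp only [Submodule.mem_map, Submodule.mem_top, true_and, LinearMap.mem_ker]
    refine ⟨fun ha => ⟨a, by simp [pr, ha]⟩, ?_⟩
    rintro ⟨b, rfl⟩
    simp [pr, show φ (σ (φ b)) = φ b from LinearMap.congr_fun hσ (φ b)]
  refine Submodule.eq_bot_of_le_smul_of_le_jacobson_bot (maximalIdeal R) _ (hker ▸ Module.Finite.fg_top.map pr)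
    (fun a ha => ?_) (maximalIdeal_le_jacobson ⊥)
  have h1 : pr a ∈ Submodule.map pr (maximalIdeal R • (⊤ : Submodule R A)) :=
    Submodule.mem_map_of_mem (hi a (by rw [LinearMap.mem_ker.1 ha]; exact zero_mem _))
  rw [Submodule.map_smul'', ← hker] at h1
  simpa [pr, LinearMap.mem_ker.1 ha] using h1

theorem isAzumaya_op (B : Type u) [Ring B] [Algebra R B] [h : IsAzumaya R B] : IsAzumaya R Bᵐᵒᵖ := by
  let e : B ≃ₗ[R] Bᵐᵒᵖ := opLinearEquiv R
  haveI : Module.Finite R Bᵐᵒᵖ := Module.Finite.equiv e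
  haveI : Module.Projective R Bᵐᵒᵖ := Module.Projective.of_equiv e
  haveI : FaithfulSMul R Bᵐᵒᵖ := ⟨fun hr => eq_of_smul_eq_smul fun b : B => congrArg unop (hr (op b))⟩
  let T : Bᵐᵒᵖ ⊗[R] (Bᵐᵒᵖ)ᵐᵒᵖ ≃ₗ[R] B ⊗[R] Bᵐᵒᵖ := (TensorProduct.comm R _ _).trans
    (TensorProduct.congr ((opLinearEquiv R).symm.trans (opLinearEquiv R).symm) (LinearEquiv.refl R _))
  let N := ((T.trans (LinearEquiv.ofBijective (AlgHom.mulLeftRight R B).toLinearMap h.bij)).trans e.conj)
  refine { bij := ?_ }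
  have : (AlgHom.mulLeftRight R Bᵐᵒᵖ).toLinearMap = N.toLinearMap := by
    refine TensorProduct.ext' fun x y => LinearMap.ext fun z => ?_
    apply unop_injective
    simp [N, T, e, LinearEquiv.conj_apply, mul_assoc]
  show Function.Bijective ((AlgHom.mulLeftRight R Bᵐᵒᵖ).toLinearMap)
  rw [this]
  exact N.bijective

variable (A : Type u) [Ring A] [Algebra R A] [IsAzumaya R A]
variable (B : Type u) [Ring B] [Algebra R B] [IsAzumaya R B]

theorem exists_lift (e₀ : (ResidueField R ⊗[R] A) ≃ₐ[ResidueField R] (ResidueField R ⊗[R] B)) :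
    ∃ e : A ≃ₐ[R] B, ∀ a : A, e₀ ((1 : ResidueField R) ⊗ₜ[R] a) = (1 : ResidueField R) ⊗ₜ[R] (e a) := by
  let κ := ResidueField R
  let C := A ⊗[R] Bᵐᵒᵖ
  let B₀ := κ ⊗[R] B
  let f : A →ₐ[R] B₀ :=
    (e₀.toAlgHom.restrictScalars R).comp (Algebra.TensorProduct.includeRight : A →ₐ[R] κ ⊗[R] A)
  let g : B →ₐ[R] B₀ := Algebra.TensorProduct.includeRight
  let act : C →ₐ[R] Module.End R B₀ :=
    (AlgHom.mulLeftRight R B₀).comp (Algebra.TensorProduct.map f g.op)
  have hact : ∀ a b (x : B₀), act (a ⊗ₜ op b) x = f a * x * g b := fun a b x =>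
    AlgHom.mulLeftRight_apply R B₀ (f a) (op (g b)) x
  let π : C →ₗ[R] B₀ := (LinearMap.applyₗ (1 : B₀)) ∘ₗ act.toLinearMap
  have hπ : ∀ c c', π (c * c') = act c (π c') := fun c c' => by
    show act (c * c') 1 = _
    rw [map_mul]; rfl
  haveI : IsAzumaya R Bᵐᵒᵖ := isAzumaya_op B
  haveI : IsAzumaya R C := AzumayaLib.isAzumaya_tensor
  have hκ : Function.Surjective (algebraMap R κ) := Ideal.Quotient.mk_surjective
  -- a section of `c ↦ c • 1` over the residue field
  let actK : κ ⊗[R] C →ₐ[R] Module.End R B₀ :=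
    Algebra.TensorProduct.lift (Algebra.lsmul R R B₀) act fun c x => by
      refine LinearMap.ext fun y => ?_
      show c • act x y = act x (c • y)
      obtain ⟨r, rfl⟩ := hκ c
      rw [algebraMap_smul, algebraMap_smul, map_smul]
  have hsimple : IsSimpleRing (κ ⊗[R] C) := (AzumayaLib.fibre_csa (R := R) (A := C) κ).2
  haveI : IsArtinianRing (κ ⊗[R] C) := isArtinian_of_tower κ inferInstance
  letI : Module (κ ⊗[R] C) B₀ := Module.compHom B₀ actK.toRingHom
  have hsmul : ∀ (c : C) (x : B₀), ((1 : κ) ⊗ₜ[R] c) • x = act c x := fun c x => by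
    show actK ((1 : κ) ⊗ₜ[R] c) x = _
    simp [actK]
  have hgB : ∀ y : B₀, ∃ b, y = g b := fun y => by
    obtain ⟨b, hb⟩ := TensorProduct.mk_surjective R B κ hκ y
    exact ⟨b, hb.symm⟩
  let ev := LinearMap.toSpanSingleton (κ ⊗[R] C) B₀ 1
  have hev : Function.Surjective ev := fun y => by
    obtain ⟨b, rfl⟩ := hgB y
    refine ⟨(1 : κ) ⊗ₜ[R] ((1 : A) ⊗ₜ[R] op b), ?_⟩
    show ((1 : κ) ⊗ₜ[R] ((1 : A) ⊗ₜ[R] op b)) • (1 : B₀) = g b
    rw [hsmul, hact, map_one, one_mul, one_mul]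
  haveI : IsSemisimpleRing (κ ⊗[R] C) := inferInstance
  haveI : Module.Projective (κ ⊗[R] C) B₀ := @Module.projective_of_isSemisimpleRing (κ ⊗[R] C) _ inferInstance B₀ _ _
  obtain ⟨s, hs⟩ := Module.projective_lifting_property ev LinearMap.id hev
  obtain ⟨ε₁, hε₁⟩ := TensorProduct.mk_surjective R C κ hκ (s 1)
  have h1π : ((1 : κ) ⊗ₜ[R] ε₁) • (1 : B₀) = 1 := by
    show (TensorProduct.mk R κ C 1 ε₁) • (1 : B₀) = 1
    rw [hε₁]
    exact LinearMap.congr_fun hs 1
  have hann : ∀ c, π c = 0 → c * ε₁ ∈ maximalIdeal R • (⊤ : Submodule R C) := fun c hc => by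
    rw [← tmul_one_eq_zero_iff, show (1 : κ) ⊗ₜ[R] (c * ε₁) = ((1 : κ) ⊗ₜ[R] c) • s 1 from ?_]
    · rw [← map_smul, hsmul]
      show s (π c) = 0
      rw [hc, map_zero]
    · rw [smul_eq_mul, ← hε₁, TensorProduct.mk_apply, Algebra.TensorProduct.tmul_mul_tmul, one_mul]
  have hπε₁ : π ε₁ = 1 := by
    rw [← h1π, hsmul]
    rfl
  obtain ⟨ε, hidem, hεε₁⟩ := exists_idem_lift ε₁ (by
    rw [← sub_one_mul]
    exact hann _ (by
      rw [map_sub, hπε₁, show π 1 = 1 from LinearMap.congr_fun (map_one act) (1 : B₀), sub_self]))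
  have hπm : ∀ x ∈ maximalIdeal R • (⊤ : Submodule R C), π x = 0 := fun x hx => by
    refine Submodule.smul_induction_on hx (fun a ha z _ => ?_) (fun y z hy hz => by rw [map_add, hy, hz, add_zero])
    rw [map_smul, ← algebraMap_smul κ a, IsLocalRing.ResidueField.algebraMap_eq,
      (IsLocalRing.residue_eq_zero_iff a).2 ha, zero_smul]
  have hπε : π ε = 1 := by
    rw [← sub_add_cancel ε ε₁, map_add, hπm _ hεε₁, zero_add, hπε₁]
  have hmul_mem : ∀ {x : C}, x ∈ maximalIdeal R • (⊤ : Submodule R C) → ∀ c, c * x ∈ maximalIdeal R • (⊤ : Submodule R C) :=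
    fun {x} hx c => Submodule.smul_induction_on hx
      (fun a ha z _ => by rw [mul_smul_comm]; exact Submodule.smul_mem_smul ha trivial)
      (fun y z hy hz => by rw [mul_add]; exact add_mem hy hz)
  have hannε : ∀ c, π c = 0 → c * ε ∈ maximalIdeal R • (⊤ : Submodule R C) := fun c hc => by
    rw [← sub_add_cancel ε ε₁, mul_add]
    exact add_mem (hmul_mem hεε₁ c) (hann c hc)
  -- the bimodule `C ε`
  let P : Submodule R C := LinearMap.range (LinearMap.mulRight R ε)
  let pr : C →ₗ[R] P := (LinearMap.mulRight R ε).rangeRestrict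
  have hpr : ∀ p : P, pr (p : C) = p := by
    rintro ⟨_, c, rfl⟩
    refine Subtype.ext ?_
    show c * ε * ε = c * ε
    rw [mul_assoc, hidem.eq]
  haveI : Module.Projective R P := Module.Projective.of_split P.subtype pr (LinearMap.ext hpr)
  haveI : Module.Finite R P := Module.Finite.of_surjective pr fun p => ⟨_, hpr p⟩
  have hprm : ∀ c, π c = 0 → pr c ∈ maximalIdeal R • (⊤ : Submodule R P) := fun c hc => by
    have : pr c = pr (c * ε) := Subtype.ext (by
      show c * ε = c * ε * ε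
      rw [mul_assoc, hidem.eq])
    rw [this]
    have h := Submodule.mem_map_of_mem (f := pr) (hannε c hc)
    rw [Submodule.map_smul''] at h
    exact Submodule.smul_mono le_rfl le_top h
  have hπP : ∀ p ∈ maximalIdeal R • (⊤ : Submodule R P), π (p : C) = 0 := fun p hp => by
    refine hπm _ ?_
    have h := Submodule.mem_map_of_mem (f := P.subtype) hp
    rw [Submodule.map_smul''] at h
    exact Submodule.smul_mono le_rfl le_top h
  let iA : A →ₗ[R] C := (Algebra.TensorProduct.includeLeft : A →ₐ[R] C).toLinearMap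
  let iB : B →ₗ[R] C := (Algebra.TensorProduct.includeRight : Bᵐᵒᵖ →ₐ[R] C).toLinearMap ∘ₗ
    (opLinearEquiv R).toLinearMap
  have hπA : ∀ a, π (iA a) = f a := fun a => by
    show act (a ⊗ₜ[R] op 1) 1 = _
    rw [hact, map_one, mul_one, mul_one]
  have hπB : ∀ b, π (iB b) = g b := fun b => by
    show act ((1 : A) ⊗ₜ[R] op b) 1 = _
    rw [hact, map_one, one_mul, one_mul]
  have hπpr : ∀ c, π (pr c : C) = π c := fun c => by
    show π (c * ε) = π c
    rw [hπ, hπε]; rfl
  have hfs : ∀ y : B₀, ∃ a, y = f a := fun y => by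
    obtain ⟨a, ha⟩ := TensorProduct.mk_surjective R A κ hκ (e₀.symm y)
    exact ⟨a, (e₀.apply_symm_apply y).symm.trans (congrArg e₀ ha.symm)⟩
  have hbij : ∀ (D : Type u) [AddCommGroup D] [Module R D] [Module.Finite R D] (i : D →ₗ[R] C) (F : D → B₀),
      (∀ d, π (i d) = F d) → (∀ y, ∃ d, y = F d) →
      (∀ d, F d = 0 → d ∈ maximalIdeal R • (⊤ : Submodule R D)) → Function.Bijective (pr ∘ₗ i) := by
    intro D _ _ _ i F hF hFs hFi
    refine bijective_of_residue (A := D) (P := ↥P) (pr ∘ₗ i) (fun p => ?_) fun d hd => hFi d ?_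
    · obtain ⟨d, hd⟩ := hFs (π p)
      refine ⟨d, ?_⟩
      have h1 := hprm (i d - (p : C)) (by rw [map_sub, hF, hd, sub_self])
      have h2 : pr (i d - (p : C)) = (pr ∘ₗ i) d - p := Subtype.ext (by
        show (i d - (p : C)) * ε = i d * ε - (p : C)
        rw [sub_mul]
        exact congrArg (i d * ε - ·) (congrArg Subtype.val (hpr p)))
      rw [← h2]
      exact h1
    · have := hπP _ hd
      change π (pr (i d) : C) = 0 at this
      rw [hπpr, hF] at this
      exact this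
  have bA := hbij A iA f hπA hfs fun a ha => by
    rw [← tmul_one_eq_zero_iff]
    exact e₀.injective (ha.trans (map_zero _).symm)
  have bB := hbij B iB g hπB hgB fun b hb => (tmul_one_eq_zero_iff b).1 hb
  let e' := (LinearEquiv.ofBijective _ bA).trans (LinearEquiv.ofBijective _ bB).symm
  have he : ∀ a, (a ⊗ₜ[R] (1 : Bᵐᵒᵖ)) * ε = ((1 : A) ⊗ₜ[R] op (e' a)) * ε := fun a => by
    have h := (LinearEquiv.ofBijective _ bB).apply_symm_apply (LinearEquiv.ofBijective _ bA a)
    exact (congrArg Subtype.val h).symm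
  have hinjB : ∀ b b', ((1 : A) ⊗ₜ[R] op b) * ε = ((1 : A) ⊗ₜ[R] op b') * ε → b = b' := fun b b' h =>
    bB.1 (Subtype.ext h)
  refine ⟨AlgEquiv.ofLinearEquiv e' (hinjB _ _ ?_) fun a a' => hinjB _ _ ?_, fun a => ?_⟩
  · rw [← he]; rfl
  · rw [← he, show (a * a') ⊗ₜ[R] (1 : Bᵐᵒᵖ) = (a ⊗ₜ[R] (1 : Bᵐᵒᵖ)) * (a' ⊗ₜ[R] 1) by
        rw [Algebra.TensorProduct.tmul_mul_tmul, one_mul], mul_assoc, he a', ← mul_assoc,
      Algebra.TensorProduct.tmul_mul_tmul, mul_one, one_mul,
      show a ⊗ₜ[R] op (e' a') = ((1 : A) ⊗ₜ[R] op (e' a')) * (a ⊗ₜ[R] (1 : Bᵐᵒᵖ)) by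
        rw [Algebra.TensorProduct.tmul_mul_tmul, one_mul, mul_one], mul_assoc, he a, ← mul_assoc,
      Algebra.TensorProduct.tmul_mul_tmul, one_mul, ← op_mul]
  · show f a = g (e' a)
    rw [← hπA, ← hπB, ← hπpr, ← hπpr (iB _)]
    exact congrArg π (he a)

end AzHensLib
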