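import Groth.Agent.AzHensLib.Deform
import Groth.Agent.HenselLib.SmoothLift
import Mathlib.RingTheory.Smooth.Basic

/-!
# The scheme of separable algebra structures is smooth
-/

set_option autoImplicit false

universe u

open MvPolynomial

namespace AzHensLib

variable (R : Type u) [CommRing R] {m : ℕ} (o : Fin m)

/-- Variables: structure constants and coordinates of the separability element. -/
abbrev Vars (m : ℕ) : Type := (Fin m × Fin m × Fin m) ⊕ (Fin m × Fin m)

section Coord

variable {T : Type u} [CommRing T]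

/-- The bilinear map with given structure constants. -/
def bil (c : Fin m → Fin m → Fin m → T) : (Fin m → T) →ₗ[T] (Fin m → T) →ₗ[T] (Fin m → T) :=
  LinearMap.mk₂ T (fun u v k => ∑ i, ∑ j, u i * v j * c i j k)
    (fun a a' b => by ext k; simp [add_mul, Finset.sum_add_distrib])
    (fun r a b => by ext k; simp [Finset.mul_sum, mul_assoc])
    (fun a b b' => by ext k; simp [add_mul, mul_add, Finset.sum_add_distrib])
    (fun r a b => by ext k; simp [Finset.mul_sum, mul_left_comm, mul_assoc])

lemma bil_apply (c : Fin m → Fin m → Fin m → T) (u v : Fin m → T) (k : Fin m) :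
    bil c u v k = ∑ i, ∑ j, u i * v j * c i j k := rfl

lemma bil_ee (c : Fin m → Fin m → Fin m → T) (i j : Fin m) : bil c (ee T i) (ee T j) = c i j := by
  ext k
  rw [bil_apply, Finset.sum_eq_single i, Finset.sum_eq_single j]
  · simp [ee]
  · intro b _ hb; simp [ee, hb]
  · simp
  · intro b _ hb; simp [ee, hb]
  · simp

lemma bil_of (β : (Fin m → T) →ₗ[T] (Fin m → T) →ₗ[T] (Fin m → T)) :
    bil (fun i j => β (ee T i) (ee T j)) = β := by
  refine LinearMap.pi_ext' fun i => LinearMap.ext_ring (LinearMap.pi_ext' fun j => LinearMap.ext_ring ?_)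
  exact bil_ee (fun i j => β (ee T i) (ee T j)) i j

/-- The defining equations, evaluated at given coordinates. -/
def eqs (c : Fin m → Fin m → Fin m → T) (x : Fin m → Fin m → T) :
    ((Fin m × Fin m × Fin m × Fin m) ⊕ (Fin m × Fin m)) ⊕ ((Fin m × Fin m) ⊕ (Fin m ⊕ Fin m × Fin m × Fin m)) → T :=
  Sum.elim
    (Sum.elim (fun p => (∑ i, c p.1 p.2.1 i * c i p.2.2.1 p.2.2.2) - ∑ i, c p.2.1 p.2.2.1 i * c p.1 i p.2.2.2)
      (fun p => c o p.1 p.2 - if p.1 = p.2 then 1 else 0))
    (Sum.elim (fun p => c p.1 o p.2 - if p.1 = p.2 then 1 else 0)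
      (Sum.elim (fun k => (∑ j, ∑ i, x j i * c i j k) - if o = k then 1 else 0)
        (fun p => (∑ i, x p.2.1 i * c p.1 i p.2.2) - ∑ j, c j p.1 p.2.1 * x j p.2.2)))

lemma map_eqs {T' : Type u} [CommRing T'] (f : T →+* T') (c : Fin m → Fin m → Fin m → T) (x : Fin m → Fin m → T) (q) :
    f (eqs o c x q) = eqs o (fun i j k => f (c i j k)) (fun j k => f (x j k)) q := by
  rcases q with (p | p) | (p | p | p) <;> simp [eqs, apply_ite f]

lemma assoc_coord (c : Fin m → Fin m → Fin m → T) (a b d k : Fin m) :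
    (bil c (bil c (ee T a) (ee T b)) (ee T d) - bil c (ee T a) (bil c (ee T b) (ee T d))) k =
      (∑ i, c a b i * c i d k) - ∑ i, c b d i * c a i k := by
  rw [Pi.sub_apply, bil_ee, bil_ee, bil_apply, bil_apply]
  congr 1
  · refine Finset.sum_congr rfl fun i _ => ?_
    rw [Finset.sum_eq_single d]
    · simp [ee]
    · intro e _ he; simp [ee, he]
    · simp
  · rw [Finset.sum_eq_single a]
    · simp [ee]
    · intro e _ he; simp [ee, he]
    · simp

lemma cent_coord (c : Fin m → Fin m → Fin m → T) (x : Fin m → Fin m → T) (a l k : Fin m) :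
    (bil c (ee T a) (x l) - ∑ j, bil c (ee T j) (ee T a) l • x j) k =
      (∑ i, x l i * c a i k) - ∑ j, c j a l * x j k := by
  rw [Pi.sub_apply, bil_apply, Finset.sum_apply]
  congr 1
  · rw [Finset.sum_eq_single a]
    · simp [ee]
    · intro e _ he; simp [ee, he]
    · simp
  · simp [bil_ee]

lemma norm_coord (c : Fin m → Fin m → Fin m → T) (x : Fin m → Fin m → T) (k : Fin m) :
    (∑ j, bil c (x j) (ee T j) - ee T o) k = (∑ j, ∑ i, x j i * c i j k) - if o = k then 1 else 0 := by
  rw [Pi.sub_apply, Finset.sum_apply]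
  congr 1
  · refine Finset.sum_congr rfl fun j _ => ?_
    rw [bil_apply]
    refine Finset.sum_congr rfl fun i _ => ?_
    rw [Finset.sum_eq_single j]
    · simp [ee]
    · intro e _ he; simp [ee, he]
    · simp
  · simp [ee, Pi.single_apply, eq_comm]

theorem eqs_of_isSep {β : (Fin m → T) →ₗ[T] (Fin m → T) →ₗ[T] (Fin m → T)} {x : Fin m → Fin m → T}
    (h : IsSep β o x) (q) : eqs o (fun i j => β (ee T i) (ee T j)) x q = 0 := by
  rcases q with (⟨a, b, d, k⟩ | ⟨a, k⟩) | (⟨a, k⟩ | k | ⟨a, l, k⟩)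
  · refine (assoc_coord (fun i j => β (ee T i) (ee T j)) a b d k).symm.trans ?_
    rw [bil_of, h.assoc, sub_self]; rfl
  · show β (ee T o) (ee T a) k - _ = (0 : T)
    rw [h.one_mul]; simp [ee, Pi.single_apply, eq_comm]
  · show β (ee T a) (ee T o) k - _ = (0 : T)
    rw [h.mul_one]; simp [ee, Pi.single_apply, eq_comm]
  · show _ - _ = (0 : T)
    rw [← norm_coord, bil_of, h.norm, sub_self, Pi.zero_apply]
  · refine (cent_coord (fun i j => β (ee T i) (ee T j)) x a l k).symm.trans ?_
    rw [bil_of, ← h.central, sub_self]; rfl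

theorem inN_of_eqs {N : Ideal T} {c : Fin m → Fin m → Fin m → T} {x : Fin m → Fin m → T}
    (h : ∀ q, eqs o c x q ∈ N) :
    (∀ a b d, InN N (bil c (bil c a b) d - bil c a (bil c b d))) ∧
      InN N (∑ j, bil c (x j) (ee T j) - ee T o) ∧
      ∀ a l, InN N (bil c a (x l) - ∑ j, bil c (ee T j) a l • x j) := by
  let β := bil c
  have hlin : ∀ (F : (Fin m → T) →ₗ[T] (Fin m → T)), (∀ j, InN N (F (ee T j))) → ∀ v, InN N (F v) := by
    intro F hF v
    rw [eq_sum_ee v, map_sum]
    exact InN.sum fun j => by rw [map_smul]; exact (hF j).smul _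
  refine ⟨fun a b d => ?_, fun k => ?_, fun a l => ?_⟩
  · have h3 : ∀ i j, ∀ d, InN N (β (β (ee T i) (ee T j)) d - β (ee T i) (β (ee T j) d)) := fun i j d =>
      hlin (β (β (ee T i) (ee T j)) - (β (ee T i)).comp (β (ee T j))) (fun l k => by
        show (β (β (ee T i) (ee T j)) (ee T l) - β (ee T i) (β (ee T j) (ee T l))) k ∈ N
        rw [assoc_coord]; exact h (Sum.inl (Sum.inl (i, j, l, k)))) d
    have h2 : ∀ i, ∀ b d, InN N (β (β (ee T i) b) d - β (ee T i) (β b d)) := fun i b d =>
      hlin ((β.flip d).comp (β (ee T i)) - (β (ee T i)).comp (β.flip d)) (fun j => h3 i j d) b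
    exact hlin ((β.flip d).comp (β.flip b) - β.flip (β b d)) (fun i => h2 i b d) a
  · rw [norm_coord]; exact h (Sum.inr (Sum.inr (Sum.inl k)))
  · exact hlin (β.flip (x l) - ∑ j, (LinearMap.smulRight ((LinearMap.proj l).comp (β (ee T j))) (x j)))
      (fun i k => by
        show ((β.flip (x l) - ∑ j, _) (ee T i)) k ∈ N
        rw [LinearMap.sub_apply, LinearMap.sum_apply]
        show (bil c (ee T i) (x l) - ∑ j, bil c (ee T j) (ee T i) l • x j) k ∈ N
        rw [cent_coord]
        exact h (Sum.inr (Sum.inr (Sum.inr (i, l, k))))) a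
      |> fun hh => by simpa [β, LinearMap.sum_apply] using hh

end Coord

/-- The generic point. -/
noncomputable def genEqs : ((Fin m × Fin m × Fin m × Fin m) ⊕ (Fin m × Fin m)) ⊕ ((Fin m × Fin m) ⊕ (Fin m ⊕ Fin m × Fin m × Fin m)) → MvPolynomial (Vars m) R :=
  eqs o (fun i j k => X (Sum.inl (i, j, k))) (fun j k => X (Sum.inr (j, k)))

/-- The coordinate ring of separable algebra structures. -/
abbrev Mod : Type u := MvPolynomial (Vars m) R ⧸ Ideal.span (Set.range (genEqs R o))

/-- A point of the moduli from a solution of the equations. -/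
noncomputable def point {S : Type u} [CommRing S] [Algebra R S] (c : Fin m → Fin m → Fin m → S) (x : Fin m → Fin m → S)
    (h : ∀ q, eqs o c x q = 0) : Mod R o →ₐ[R] S :=
  Ideal.Quotient.liftₐ _ (aeval (Sum.elim (fun p => c p.1 p.2.1 p.2.2) (fun p => x p.1 p.2))) (by
    intro p hp
    refine (Ideal.span_le (I := RingHom.ker (aeval (R := R) (Sum.elim (fun p => c p.1 p.2.1 p.2.2)
      (fun p => x p.1 p.2))))).2 ?_ hp
    rintro _ ⟨q, rfl⟩
    rw [SetLike.mem_coe, RingHom.mem_ker, genEqs]
    erw [map_eqs o]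
    simpa using h q)

theorem point_mk {S : Type u} [CommRing S] [Algebra R S] (c : Fin m → Fin m → Fin m → S) (x : Fin m → Fin m → S)
    (h : ∀ q, eqs o c x q = 0) (v : Vars m) :
    point R o c x h (Ideal.Quotient.mk _ (X v)) = Sum.elim (fun p => c p.1 p.2.1 p.2.2) (fun p => x p.1 p.2) v :=
  aeval_X _ v

/-- The coordinates of a point. -/
theorem eqs_point {S : Type u} [CommRing S] [Algebra R S] (g : Mod R o →ₐ[R] S) (q) :
    eqs o (fun i j k => g (Ideal.Quotient.mk _ (X (Sum.inl (i, j, k)))))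
      (fun j k => g (Ideal.Quotient.mk _ (X (Sum.inr (j, k))))) q = 0 := by
  have := map_eqs o ((g : Mod R o →+* S).comp (Ideal.Quotient.mk _))
    (fun i j k => X (Sum.inl (i, j, k))) (fun j k => X (Sum.inr (j, k))) q
  refine this.symm.trans ?_
  show g (Ideal.Quotient.mk _ (genEqs R o q)) = 0
  exact (congrArg g (Ideal.Quotient.eq_zero_iff_mem.2 (Ideal.subset_span (Set.mem_range_self q)))).trans (map_zero g)

instance : Algebra.FinitePresentation R (Mod R o) :=
  Algebra.FinitePresentation.quotient (Submodule.fg_span (Set.finite_range _))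

theorem exists_comp_eq {B : Type u} [CommRing B] [Algebra R B] (I : Ideal B) (g : Mod R o →ₐ[R] B ⧸ I)
    (c : Fin m → Fin m → Fin m → B) (x : Fin m → Fin m → B) (h : ∀ q, eqs o c x q = 0)
    (hc : ∀ i j k, Ideal.Quotient.mk I (c i j k) = g (Ideal.Quotient.mk _ (X (Sum.inl (i, j, k)))))
    (hx : ∀ j k, Ideal.Quotient.mk I (x j k) = g (Ideal.Quotient.mk _ (X (Sum.inr (j, k))))) :
    ∃ f : Mod R o →ₐ[R] B, (Ideal.Quotient.mkₐ R I).comp f = g := by
  refine ⟨point R o c x h, AlgHom.ext fun z => ?_⟩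
  obtain ⟨p, rfl⟩ := Ideal.Quotient.mk_surjective z
  have : ((Ideal.Quotient.mkₐ R I).comp (point R o c x h)).comp (Ideal.Quotient.mkₐ R _) =
      g.comp (Ideal.Quotient.mkₐ R _) := MvPolynomial.algHom_ext fun v => by
    simp only [AlgHom.comp_apply, Ideal.Quotient.mkₐ_eq_mk, point_mk]
    rcases v with ⟨i, j, k⟩ | ⟨j, k⟩
    · exact hc i j k
    · exact hx j k
  exact AlgHom.congr_fun this p

theorem exists_point_lift_sq {B : Type u} [CommRing B] [Algebra R B] (I : Ideal B)
    (hN : ∀ a ∈ I, ∀ b ∈ I, a * b = 0) (g : Mod R o →ₐ[R] B ⧸ I) :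
    ∃ f : Mod R o →ₐ[R] B, (Ideal.Quotient.mkₐ R I).comp f = g := by
  choose c₀ hc₀ using fun v : Fin m × Fin m × Fin m =>
    Ideal.Quotient.mk_surjective (g (Ideal.Quotient.mk _ (X (Sum.inl v))))
  choose x₀ hx₀ using fun v : Fin m × Fin m =>
    Ideal.Quotient.mk_surjective (g (Ideal.Quotient.mk _ (X (Sum.inr v))))
  let c : Fin m → Fin m → Fin m → B := fun i j k =>
    if i = o then (if j = k then 1 else 0) else if j = o then (if i = k then 1 else 0) else c₀ (i, j, k)
  let x : Fin m → Fin m → B := fun j k => x₀ (j, k)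
  have hπc : ∀ i j k, Ideal.Quotient.mk I (c i j k) = g (Ideal.Quotient.mk _ (X (Sum.inl (i, j, k)))) := by
    intro i j k
    simp only [c]
    by_cases hi : i = o
    · have h0 := eqs_point R o g (Sum.inl (Sum.inr (j, k)))
      simp only [eqs, Sum.elim_inl, Sum.elim_inr, sub_eq_zero] at h0
      rw [if_pos hi, hi, h0, apply_ite (Ideal.Quotient.mk I), map_one, map_zero]
    · by_cases hj : j = o
      · have h0 := eqs_point R o g (Sum.inr (Sum.inl (i, k)))
        simp only [eqs, Sum.elim_inl, Sum.elim_inr, sub_eq_zero] at h0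
        rw [if_neg hi, if_pos hj, hj, h0, apply_ite (Ideal.Quotient.mk I), map_one, map_zero]
      · rw [if_neg hi, if_neg hj, hc₀]
  have h1 : ∀ v, bil c (ee B o) v = v := fun v => by
    ext k
    rw [bil_apply, Finset.sum_eq_single o]
    · simp [ee, c, Finset.sum_ite_eq']
    · intro e _ he; simp [ee, he]
    · simp
  have h1' : ∀ v, bil c v (ee B o) = v := fun v => by
    ext k
    rw [bil_apply]
    have : ∀ i, ∑ j, v i * ee B o j * c i j k = if i = k then v i else 0 := fun i => by
      rw [Finset.sum_eq_single o]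
      · have hco : c i o k = if i = k then 1 else 0 := by
          by_cases hi : i = o
          · subst hi; simp [c]
          · simp [c, hi]
        rw [hco]
        simp [ee]
      · intro e _ he; simp [ee, he]
      · simp
    simp [this]
  clear_value c x
  have hxx : ∀ j k, Ideal.Quotient.mk I (x₀ (j, k)) = g (Ideal.Quotient.mk _ (X (Sum.inr (j, k)))) :=
    fun j k => hx₀ (j, k)
  obtain ⟨hA, hM, hC⟩ := inN_of_eqs o (c := c) (x := fun j k => x₀ (j, k)) (N := I) fun q => by
    refine Ideal.Quotient.eq_zero_iff_mem.1 ?_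
    rw [map_eqs o, funext fun i => funext fun j => funext fun k => hπc i j k,
      funext fun j => funext fun k => hxx j k]
    exact eqs_point R o g q
  obtain ⟨β, x', hsep, hβ, hx'⟩ := exists_deform hN (bil c) o (fun j k => x₀ (j, k)) h1 h1' hA hM hC
  exact exists_comp_eq R o I g (fun i j => β (ee B i) (ee B j)) x' (eqs_of_isSep o hsep)
    (fun i j k => by
      rw [← hπc i j k]
      refine Ideal.Quotient.eq.2 ?_
      have := hβ (ee B i) (ee B j) k
      rw [bil_ee] at this
      exact this)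
    (fun j k => (Ideal.Quotient.eq.2 (hx' j k)).trans (hxx j k))

instance instFormallySmooth : Algebra.FormallySmooth R (Mod R o) :=
  Algebra.FormallySmooth.of_comp_surjective fun B _ _ I hI g =>
    exists_point_lift_sq R o I (fun a ha b hb => by
      rw [← Ideal.mem_bot, ← hI, pow_two]; exact Ideal.mul_mem_mul ha hb) g

instance : Algebra.Smooth R (Mod R o) := ⟨inferInstance, inferInstance⟩

end AzHensLib
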